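import Groth.Agent.S2086
import Groth.Agent.Lib.FFDescent.Serre
import Groth.Agent.Lib.CMFree.FiniteFlat
import Groth.Agent.Lib.CatCM.Basic
import Groth.Agent.Lib.FormalDescent.Basic

/-!
# Homomorphisms with `(S_n)` fibres
-/

set_option autoImplicit false
set_option linter.style.haveILetI false
universe u

open TensorProduct IsLocalRing

namespace GrothLib.SnFibres

/-- `(S_n)` is invariant under isomorphisms. -/
theorem hasSk_congr {R T : Type u} [CommRing R] [CommRing T] [IsNoetherianRing R] (e : R ≃+* T) {n : ℕ}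
    (h : LocCoh.HasSk n R R) : LocCoh.HasSk n T T := by
  haveI := isNoetherianRing_of_ringEquiv R e
  rw [GrothLib.Hensel.hasSk_self_iff] at h ⊢
  intro p _
  let q := p.comap (e : R →+* T)
  have hmap : Submonoid.map (e : R →+* T).toMonoidHom q.primeCompl = p.primeCompl := by
    ext x
    refine ⟨?_, fun hx => ⟨e.symm x, show e (e.symm x) ∉ p by rwa [e.apply_symm_apply], e.apply_symm_apply x⟩⟩
    rintro ⟨y, hy, rfl⟩
    exact hy
  let eq' : Localization.AtPrime q ≃+* Localization.AtPrime p :=
    IsLocalization.ringEquivOfRingEquiv _ _ e hmap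
  letI : Algebra (Localization.AtPrime q) (Localization.AtPrime p) := eq'.toRingHom.toAlgebra
  have hd : LocCoh.depth (Localization.AtPrime p) (Localization.AtPrime p) =
      LocCoh.depth (Localization.AtPrime q) (Localization.AtPrime q) := by
    haveI : Module.Finite (Localization.AtPrime q) (Localization.AtPrime p) :=
      Module.Finite.of_surjective (Algebra.linearMap _ _) eq'.surjective
    rw [← GrothLib.Faltings.depth_eq_of_surjective (A := Localization.AtPrime q) eq'.surjective (Localization.AtPrime p)]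
    exact (GrothLib.Depth.idealDepth_eq_of_equiv _ (LinearEquiv.ofBijective (Algebra.linearMap _ _) eq'.bijective)).symm
  have := h q
  rwa [ringKrullDim_eq_of_ringEquiv eq', ← hd] at this

/-- A ring is Cohen–Macaulay when it satisfies every `(S_n)`. -/
theorem isCohenMacaulayRing_iff_forall_hasSk {R : Type u} [CommRing R] [IsNoetherianRing R] :
    LocCoh.IsCohenMacaulayRing R ↔ ∀ n, LocCoh.HasSk n R R := by
  constructor
  · intro h n
    rw [GrothLib.Hensel.hasSk_self_iff]
    intro p _
    exact (min_le_right _ _).trans ((Module.supportDim_self_eq_ringKrullDim _).symm.trans_le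
      (h.isCohenMacaulayLocalRing_localization p).supportDim_eq_depth.le)
  · intro h
    refine { isCohenMacaulayLocalRing_localization := fun p _ => ?_ }
    haveI : IsNoetherianRing (Localization.AtPrime p) := IsLocalization.isNoetherianRing p.primeCompl _ inferInstance
    refine { supportDim_eq_depth := (Module.supportDim_self_eq_ringKrullDim _).trans (le_antisymm ?_ (GrothLib.CMFree.depth_le_ringKrullDim _)) }
    obtain ⟨d, hd⟩ : ∃ d : ℕ, ringKrullDim (Localization.AtPrime p) = d := by
      obtain ⟨d, hd, -⟩ : ∃ d : ℕ, ringKrullDim (Localization.AtPrime p) = d ∧ True := by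
        have h1 := ringKrullDim_ne_top (R := Localization.AtPrime p)
        have h2 := ringKrullDim_ne_bot (R := Localization.AtPrime p)
        revert h1 h2
        generalize ringKrullDim (Localization.AtPrime p) = x
        intro h1 h2
        obtain ⟨y, rfl⟩ := WithBot.ne_bot_iff_exists.1 h2
        obtain ⟨m, rfl⟩ := WithTop.ne_top_iff_exists.1 (fun e : y = ⊤ => h1 (by rw [e]; rfl))
        exact ⟨m, rfl, trivial⟩
      exact ⟨d, hd⟩
    have := (GrothLib.Hensel.hasSk_self_iff R d).1 (h d) p
    rwa [hd, min_self, ← hd] at this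

variable {A B C : Type u} [CommRing A] [CommRing B] [CommRing C] [Algebra A B] [Algebra B C] [Algebra A C]
  [IsScalarTower A B C]

/-- The fibre of a composite as a base change. -/
theorem exists_fiberEquiv (p : Ideal A) [p.IsPrime] :
    Nonempty ((B ⊗[A] p.ResidueField) ⊗[B] C ≃+* p.Fiber C) :=
  ⟨(Algebra.TensorProduct.comm B (B ⊗[A] p.ResidueField) C).toRingEquiv.trans
    ((Algebra.TensorProduct.cancelBaseChange A B C C p.ResidueField).toRingEquiv.trans
      (Algebra.TensorProduct.comm A C p.ResidueField).toRingEquiv)⟩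

omit [Algebra B C] [Algebra A C] [IsScalarTower A B C] in
/-- The residue fields of a fibre are residue fields of the ring. -/
theorem surjective_residueField (p : Ideal A) [p.IsPrime] (Q : Ideal (B ⊗[A] p.ResidueField)) [Q.IsPrime] :
    ∃ φ : (Q.comap (algebraMap B (B ⊗[A] p.ResidueField))).ResidueField →+* Q.ResidueField,
      φ.comp (algebraMap B _) = algebraMap B Q.ResidueField ∧ Function.Surjective φ := by
  set K := p.ResidueField
  set L := B ⊗[A] K
  let φ := Ideal.ResidueField.map (Q.comap (algebraMap B L)) Q (algebraMap B L) rfl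
  have hφ : ∀ b, φ (algebraMap B _ b) = algebraMap L Q.ResidueField (algebraMap B L b) :=
    Ideal.ResidueField.map_algebraMap _ _ _ _
  refine ⟨φ, RingHom.ext fun b => (hφ b).trans (IsScalarTower.algebraMap_apply B L Q.ResidueField b).symm, ?_⟩
  let g : A →+* φ.fieldRange :=
    ((φ.rangeRestrictField).comp (algebraMap B _)).comp (algebraMap A B)
  have hK : ∀ l : K, algebraMap L Q.ResidueField ((1 : B) ⊗ₜ[A] l) ∈ φ.fieldRange := by
    intro l
    obtain ⟨x, y, hy, rfl⟩ := IsFractionRing.div_surjective (A ⧸ p) (K := K) l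
    obtain ⟨x, rfl⟩ := Ideal.Quotient.mk_surjective x
    obtain ⟨y, rfl⟩ := Ideal.Quotient.mk_surjective y
    let ρ : K →+* Q.ResidueField :=
      (algebraMap L Q.ResidueField).comp (Algebra.TensorProduct.includeRight : K →ₐ[A] L).toRingHom
    have hρ : ∀ a : A, ρ (algebraMap A K a) ∈ φ.fieldRange := fun a => ⟨algebraMap B _ (algebraMap A B a), by
      rw [hφ]
      show _ = algebraMap L Q.ResidueField _
      congr 1
      rw [← IsScalarTower.algebraMap_apply]
      exact ((Algebra.TensorProduct.includeRight : K →ₐ[A] L).commutes a).symm⟩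
    show ρ _ ∈ _
    rw [map_div₀]
    exact div_mem (hρ x) (hρ y)
  have hL : ∀ z : L, algebraMap L Q.ResidueField z ∈ φ.fieldRange := fun z => by
    induction z using TensorProduct.induction_on with
    | zero => rw [map_zero]; exact zero_mem _
    | tmul b l =>
      rw [show (b ⊗ₜ[A] l : L) = algebraMap B L b * (1 : B) ⊗ₜ[A] l by
        rw [Algebra.TensorProduct.algebraMap_apply, Algebra.TensorProduct.tmul_mul_tmul, mul_one, one_mul,
          Algebra.algebraMap_self, RingHom.id_apply], map_mul]
      exact mul_mem ⟨_, hφ b⟩ (hK l)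
    | add z w hz hw => rw [map_add]; exact add_mem hz hw
  intro x
  obtain ⟨u, v, hv, rfl⟩ := IsFractionRing.div_surjective (L ⧸ Q) (K := Q.ResidueField) x
  obtain ⟨u, rfl⟩ := Ideal.Quotient.mk_surjective u
  obtain ⟨v, rfl⟩ := Ideal.Quotient.mk_surjective v
  exact (div_mem (hL u) (hL v) : _ ∈ φ.fieldRange)

variable [IsNoetherianRing B] [IsNoetherianRing C]

/-- `(S_n)` fibres are stable under composition. -/
theorem hasSk_fiber_comp (n : ℕ) [Module.Flat B C]
    (hAB : ∀ (p : Ideal A) [p.IsPrime], LocCoh.HasSk n (p.Fiber B) (p.Fiber B))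
    (hBC : ∀ (q : Ideal B) [q.IsPrime], LocCoh.HasSk n (q.Fiber C) (q.Fiber C))
    (p : Ideal A) [p.IsPrime] : LocCoh.HasSk n (p.Fiber C) (p.Fiber C) := by
  let L := B ⊗[A] p.ResidueField
  let M := L ⊗[B] C
  obtain ⟨e⟩ := exists_fiberEquiv (B := B) (C := C) p
  haveI : IsNoetherianRing L := Algebra.EssFiniteType.isNoetherianRing B L
  haveI : IsNoetherianRing (p.Fiber B) :=
    isNoetherianRing_of_ringEquiv _ (Algebra.TensorProduct.comm A B p.ResidueField).toRingEquiv
  haveI : IsNoetherianRing (p.Fiber C) := GrothLib.FormalDescent.isNoetherianRing_fiber A C p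
  haveI : IsNoetherianRing M := isNoetherianRing_of_ringEquiv _ e.symm
  have hL : LocCoh.HasSk n L L :=
    hasSk_congr (Algebra.TensorProduct.comm A p.ResidueField B).toRingEquiv (hAB p)
  refine hasSk_congr e (Groth.Agent.S2086.result n hL fun Q _ => ?_)
  obtain ⟨φ, hφ, hsurj⟩ := surjective_residueField p Q
  set q := Q.comap (algebraMap B L)
  haveI : IsNoetherianRing (q.Fiber C) := GrothLib.FormalDescent.isNoetherianRing_fiber B C q
  let eφ : q.ResidueField ≃ₐ[B] Q.ResidueField :=
    AlgEquiv.ofBijective { φ with commutes' := fun b => RingHom.congr_fun hφ b } ⟨φ.injective, hsurj⟩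
  exact hasSk_congr ((Algebra.TensorProduct.congr eφ (AlgEquiv.refl (A₁ := C))).toRingEquiv.trans
    (Algebra.TensorProduct.cancelBaseChange B L L Q.ResidueField C).symm.toRingEquiv) (hBC q)

/-- `(S_n)` fibres descend along faithfully flat maps. -/
theorem hasSk_fiber_descent (n : ℕ) [Module.FaithfullyFlat B C] (p : Ideal A) [p.IsPrime]
    (hAC : LocCoh.HasSk n (p.Fiber C) (p.Fiber C)) : LocCoh.HasSk n (p.Fiber B) (p.Fiber B) := by
  let L := B ⊗[A] p.ResidueField
  let M := L ⊗[B] C
  obtain ⟨e⟩ := exists_fiberEquiv (B := B) (C := C) p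
  haveI : IsNoetherianRing L := Algebra.EssFiniteType.isNoetherianRing B L
  haveI : IsNoetherianRing (p.Fiber C) := GrothLib.FormalDescent.isNoetherianRing_fiber A C p
  haveI : IsNoetherianRing M := isNoetherianRing_of_ringEquiv _ e.symm
  exact hasSk_congr (Algebra.TensorProduct.comm A B p.ResidueField).toRingEquiv
    (GrothLib.FFDescent.hasSk_descends (R := L) (S := M) (hasSk_congr e.symm hAC))

omit [Algebra A B] [Algebra B C] [IsScalarTower A B C] [IsNoetherianRing B] [IsNoetherianRing C] in
/-- The fibres of a regular homomorphism satisfy every `(S_n)`. -/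
theorem hasSk_fiber_of_isRegularHom (h : CAlg.IsRegularHom A C) (n : ℕ) (p : Ideal A) [p.IsPrime] :
    LocCoh.HasSk n (p.Fiber C) (p.Fiber C) := by
  haveI : IsNoetherianRing (p.Fiber C) := (h.2 p).1
  haveI := (h.2 p).2 p.ResidueField inferInstance
  haveI : IsRegularRing (p.Fiber C) := IsRegularRing.of_ringEquiv (R := p.ResidueField ⊗[p.ResidueField] p.Fiber C)
    (Algebra.TensorProduct.lid p.ResidueField (p.Fiber C)).toRingEquiv
  exact isCohenMacaulayRing_iff_forall_hasSk.1 (GrothLib.CatCM.isCohenMacaulayRing_of_isRegularRing _) n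

end GrothLib.SnFibres
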